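import Cfsg.Agent.Lib.Sporadic.J3LineCheck

/-! Kernel checks of the orbit certificates. -/

set_option autoImplicit false
set_option maxRecDepth 20000

namespace CfsgLib.Sporadic.J3.Valid

theorem axisEdge0 : block axis.edgeOK 0 6000 = true := by decide +kernel

theorem axisEdge1 : block axis.edgeOK 6000 6000 = true := by decide +kernel

theorem axisEdge2 : block axis.edgeOK 12000 6000 = true := by decide +kernel

theorem axisEdge3 : block axis.edgeOK 18000 6000 = true := by decide +kernel

theorem axisEdge4 : block axis.edgeOK 24000 6000 = true := by decide +kernel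

theorem axisEdge5 : block axis.edgeOK 30000 6000 = true := by decide +kernel

theorem axisEdge6 : block axis.edgeOK 36000 6000 = true := by decide +kernel

theorem axisEdge7 : block axis.edgeOK 42000 4512 = true := by decide +kernel

theorem axisEdge_all : ∀ i < 46512, axis.edgeOK i = true := by
  intro i hi
  rcases Nat.lt_or_ge i 6000 with h0 | h0
  · exact block_elim axisEdge0 (by omega) (by omega)
  rcases Nat.lt_or_ge i 12000 with h1 | h1
  · exact block_elim axisEdge1 (by omega) (by omega)
  rcases Nat.lt_or_ge i 18000 with h2 | h2
  · exact block_elim axisEdge2 (by omega) (by omega)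
  rcases Nat.lt_or_ge i 24000 with h3 | h3
  · exact block_elim axisEdge3 (by omega) (by omega)
  rcases Nat.lt_or_ge i 30000 with h4 | h4
  · exact block_elim axisEdge4 (by omega) (by omega)
  rcases Nat.lt_or_ge i 36000 with h5 | h5
  · exact block_elim axisEdge5 (by omega) (by omega)
  rcases Nat.lt_or_ge i 42000 with h6 | h6
  · exact block_elim axisEdge6 (by omega) (by omega)
  exact block_elim axisEdge7 (by omega) (by omega)

end CfsgLib.Sporadic.J3.Valid
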