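import Cfsg.Agent.Lib.Sporadic.J3LineCheck

/-! Kernel checks of the orbit certificates. -/

set_option autoImplicit false
set_option maxRecDepth 20000

namespace CfsgLib.Sporadic.J3.Valid

theorem axisInfo0 : block axis.infoOK 0 6000 = true := by decide +kernel

theorem axisInfo1 : block axis.infoOK 6000 6000 = true := by decide +kernel

theorem axisInfo2 : block axis.infoOK 12000 6000 = true := by decide +kernel

theorem axisInfo3 : block axis.infoOK 18000 5256 = true := by decide +kernel

theorem axisInfo_all : ∀ i < 23256, axis.infoOK i = true := by
  intro i hi
  rcases Nat.lt_or_ge i 6000 with h0 | h0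
  · exact block_elim axisInfo0 (by omega) (by omega)
  rcases Nat.lt_or_ge i 12000 with h1 | h1
  · exact block_elim axisInfo1 (by omega) (by omega)
  rcases Nat.lt_or_ge i 18000 with h2 | h2
  · exact block_elim axisInfo2 (by omega) (by omega)
  exact block_elim axisInfo3 (by omega) (by omega)

end CfsgLib.Sporadic.J3.Valid
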