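import Cfsg.Agent.Lib.Sporadic.J3LineCheck

/-! Kernel checks of the orbit certificates. -/

set_option autoImplicit false
set_option maxRecDepth 20000

namespace CfsgLib.Sporadic.J3.Valid

theorem isoEdge5 : block iso.edgeOK 30000 6000 = true := by decide +kernel

theorem isoEdge6 : block iso.edgeOK 36000 6000 = true := by decide +kernel

theorem isoEdge7 : block iso.edgeOK 42000 6000 = true := by decide +kernel

theorem isoEdge8 : block iso.edgeOK 48000 6000 = true := by decide +kernel

theorem isoEdge9 : block iso.edgeOK 54000 6000 = true := by decide +kernel

end CfsgLib.Sporadic.J3.Valid
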