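import Cfsg.Agent.Lib.Sporadic.J3LineCheck

/-! Kernel checks of the orbit certificates. -/

set_option autoImplicit false
set_option maxRecDepth 20000

namespace CfsgLib.Sporadic.J3.Valid

theorem isoEdge10 : block iso.edgeOK 60000 6000 = true := by decide +kernel

theorem isoEdge11 : block iso.edgeOK 66000 6000 = true := by decide +kernel

theorem isoEdge12 : block iso.edgeOK 72000 6000 = true := by decide +kernel

theorem isoEdge13 : block iso.edgeOK 78000 6000 = true := by decide +kernel

theorem isoEdge14 : block iso.edgeOK 84000 3210 = true := by decide +kernel

end CfsgLib.Sporadic.J3.Valid
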