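import Cfsg.Agent.Lib.Sporadic.J3Lines.IsoEdgePart0
import Cfsg.Agent.Lib.Sporadic.J3Lines.IsoEdgePart1
import Cfsg.Agent.Lib.Sporadic.J3Lines.IsoEdgePart2

/-! Kernel checks of the orbit certificates. -/

set_option autoImplicit false
set_option maxRecDepth 20000

namespace CfsgLib.Sporadic.J3.Valid

theorem isoEdge_all : ∀ i < 87210, iso.edgeOK i = true := by
  intro i hi
  rcases Nat.lt_or_ge i 6000 with h0 | h0
  · exact block_elim isoEdge0 (by omega) (by omega)
  rcases Nat.lt_or_ge i 12000 with h1 | h1
  · exact block_elim isoEdge1 (by omega) (by omega)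
  rcases Nat.lt_or_ge i 18000 with h2 | h2
  · exact block_elim isoEdge2 (by omega) (by omega)
  rcases Nat.lt_or_ge i 24000 with h3 | h3
  · exact block_elim isoEdge3 (by omega) (by omega)
  rcases Nat.lt_or_ge i 30000 with h4 | h4
  · exact block_elim isoEdge4 (by omega) (by omega)
  rcases Nat.lt_or_ge i 36000 with h5 | h5
  · exact block_elim isoEdge5 (by omega) (by omega)
  rcases Nat.lt_or_ge i 42000 with h6 | h6
  · exact block_elim isoEdge6 (by omega) (by omega)
  rcases Nat.lt_or_ge i 48000 with h7 | h7
  · exact block_elim isoEdge7 (by omega) (by omega)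
  rcases Nat.lt_or_ge i 54000 with h8 | h8
  · exact block_elim isoEdge8 (by omega) (by omega)
  rcases Nat.lt_or_ge i 60000 with h9 | h9
  · exact block_elim isoEdge9 (by omega) (by omega)
  rcases Nat.lt_or_ge i 66000 with h10 | h10
  · exact block_elim isoEdge10 (by omega) (by omega)
  rcases Nat.lt_or_ge i 72000 with h11 | h11
  · exact block_elim isoEdge11 (by omega) (by omega)
  rcases Nat.lt_or_ge i 78000 with h12 | h12
  · exact block_elim isoEdge12 (by omega) (by omega)
  rcases Nat.lt_or_ge i 84000 with h13 | h13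
  · exact block_elim isoEdge13 (by omega) (by omega)
  exact block_elim isoEdge14 (by omega) (by omega)

end CfsgLib.Sporadic.J3.Valid
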