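import Cfsg.Agent.Lib.Sporadic.J3LineCheck

/-! Kernel checks of the orbit certificates. -/

set_option autoImplicit false
set_option maxRecDepth 20000

namespace CfsgLib.Sporadic.J3.Valid

theorem isoInfo0 : block iso.infoOK 0 6000 = true := by decide +kernel

theorem isoInfo1 : block iso.infoOK 6000 6000 = true := by decide +kernel

theorem isoInfo2 : block iso.infoOK 12000 6000 = true := by decide +kernel

theorem isoInfo3 : block iso.infoOK 18000 6000 = true := by decide +kernel

theorem isoInfo4 : block iso.infoOK 24000 6000 = true := by decide +kernel

theorem isoInfo5 : block iso.infoOK 30000 6000 = true := by decide +kernel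

theorem isoInfo6 : block iso.infoOK 36000 6000 = true := by decide +kernel

theorem isoInfo7 : block iso.infoOK 42000 1605 = true := by decide +kernel

theorem isoInfo_all : ∀ i < 43605, iso.infoOK i = true := by
  intro i hi
  rcases Nat.lt_or_ge i 6000 with h0 | h0
  · exact block_elim isoInfo0 (by omega) (by omega)
  rcases Nat.lt_or_ge i 12000 with h1 | h1
  · exact block_elim isoInfo1 (by omega) (by omega)
  rcases Nat.lt_or_ge i 18000 with h2 | h2
  · exact block_elim isoInfo2 (by omega) (by omega)
  rcases Nat.lt_or_ge i 24000 with h3 | h3
  · exact block_elim isoInfo3 (by omega) (by omega)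
  rcases Nat.lt_or_ge i 30000 with h4 | h4
  · exact block_elim isoInfo4 (by omega) (by omega)
  rcases Nat.lt_or_ge i 36000 with h5 | h5
  · exact block_elim isoInfo5 (by omega) (by omega)
  rcases Nat.lt_or_ge i 42000 with h6 | h6
  · exact block_elim isoInfo6 (by omega) (by omega)
  exact block_elim isoInfo7 (by omega) (by omega)

end CfsgLib.Sporadic.J3.Valid
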